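import Mathlib
import Cfsg.Agent.Lib.Helper21.U3.Defs
import Cfsg.Agent.Lib.Helper45.HermCenter

/-!
# Project U3ODD (helper21), package [CENTER] (helper68)

A nontrivial central element of a Sylow `p`-subgroup of `PSU₃(q)` is the image of an element `g`
of `SU₃(q)` with `rank (g - 1) = 1`.
-/

set_option autoImplicit false

namespace Cfsg.Agent.Lib.Helper68.U3

open Matrix
open Cfsg.Agent.Lib.Helper45 Cfsg.Agent.Lib.Helper37 Cfsg.Agent.Lib.Helper21.U3

universe u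

set_option maxHeartbeats 1000000 in
/-- package [CENTER] -/
theorem pkgCenter_of (hCU : PkgCentU.{u}) : PkgCenter.{u} := by
  intro F _ _ q p _ _ hF S x hxS hxc hx1
  classical
  have hp : p.Prime := Fact.out
  have hpq : p ∣ q := by
    obtain ⟨n, -, hc⟩ := FiniteField.card F p
    have h1 : p ∣ q ^ 2 := by
      rw [← hF, hc]
      exact dvd_pow_self p n.ne_zero
    exact hp.dvd_of_dvd_pow h1
  have hZ : Nat.Coprime p (Nat.card (Subgroup.center (Cfsg.SU 3 F q))) := by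
    rw [Nat.Prime.coprime_iff_not_dvd hp, card_center_SU hF 3 (by norm_num)]
    intro h
    have h1 : p ∣ q + 1 := h.trans (Nat.gcd_dvd_right _ _)
    have h2 : p ∣ 1 := (Nat.dvd_add_right hpq).mp h1
    exact hp.one_lt.ne' (Nat.dvd_one.mp h2)
  have hρ : Function.Surjective (QuotientGroup.mk' (Subgroup.center (Cfsg.SU 3 F q))) :=
    QuotientGroup.mk'_surjective _
  obtain ⟨P, hP⟩ := Sylow.mapSurjective_surjective hρ p S
  have hPS : ((P : Subgroup ↥(Cfsg.SU 3 F q)).map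
      (QuotientGroup.mk' (Subgroup.center (Cfsg.SU 3 F q)))) = (S : Subgroup (Cfsg.PSU 3 F q)) := by
    rw [← hP]
    rfl
  -- a `p`-element of the centre is trivial
  have hcen : ∀ c : ↥(Cfsg.SU 3 F q), c ∈ (P : Subgroup ↥(Cfsg.SU 3 F q)) →
      c ∈ Subgroup.center (Cfsg.SU 3 F q) → c = 1 := by
    intro c hcP hcZ
    obtain ⟨k, hk⟩ := P.isPGroup' ⟨c, hcP⟩
    have hk' : c ^ p ^ k = 1 := by
      have := congrArg Subtype.val hk
      simpa using this
    have h1 : orderOf c ∣ p ^ k := orderOf_dvd_of_pow_eq_one hk'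
    have h2 : orderOf c ∣ Nat.card (Subgroup.center (Cfsg.SU 3 F q)) := by
      have h3 := orderOf_dvd_natCard (⟨c, hcZ⟩ : Subgroup.center (Cfsg.SU 3 F q))
      rwa [Subgroup.orderOf_mk] at h3
    have h3 : orderOf c ∣ 1 := by
      have h4 := Nat.dvd_gcd h1 h2
      rwa [(Nat.Coprime.pow_left k hZ).gcd_eq_one] at h4
    exact orderOf_eq_one_iff.mp (Nat.dvd_one.mp h3)
  -- the lift of `x`
  have hxS' : x ∈ (P : Subgroup ↥(Cfsg.SU 3 F q)).map
      (QuotientGroup.mk' (Subgroup.center (Cfsg.SU 3 F q))) := by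
    rw [hPS]
    exact hxS
  obtain ⟨y, hyP, hyx⟩ := Subgroup.mem_map.mp hxS'
  have hy1 : y ≠ 1 := by
    rintro rfl
    rw [map_one] at hyx
    exact hx1 hyx.symm
  -- the image of `P` in `SL₃`
  set P' : Subgroup (Matrix.SpecialLinearGroup (Fin 3) F) :=
    (P : Subgroup ↥(Cfsg.SU 3 F q)).map (Cfsg.SU 3 F q).subtype with hP'
  have hP'SU : P' ≤ Cfsg.SU 3 F q := by
    rintro g ⟨g0, -, rfl⟩
    exact g0.2
  have hP'p : IsPGroup p P' := P.isPGroup'.map _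
  have hyP' : (y : Matrix.SpecialLinearGroup (Fin 3) F) ∈ P' := ⟨y, hyP, rfl⟩
  have hP'1 : P' ≠ ⊥ := by
    intro h0
    rw [h0, Subgroup.mem_bot] at hyP'
    exact hy1 (Subtype.ext hyP')
  obtain ⟨v, hv0, hvv, hfix⟩ := exists_fixed_isotropic hF P' hP'SU hP'p hP'1
  have hle : P' ≤ unipSub q v := le_unipSub hF P' hP'SU hP'p v hv0 hvv hfix
  -- `unipSub q v`, pulled back to `SU₃`, is `P`
  have hUle : unipSub q v ≤ Cfsg.SU 3 F q := fun g hg => hg.1
  have hUp : IsPGroup p ((unipSub q v).subgroupOf (Cfsg.SU 3 F q)) :=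
    (unipSub_isPGroup (p := p) q v).comap_of_injective _ (Subgroup.subtype_injective _)
  have hPU : (P : Subgroup ↥(Cfsg.SU 3 F q)) ≤ (unipSub q v).subgroupOf (Cfsg.SU 3 F q) := by
    intro g hg
    rw [Subgroup.mem_subgroupOf]
    exact hle ⟨g, hg, rfl⟩
  have hUP : (unipSub q v).subgroupOf (Cfsg.SU 3 F q) = (P : Subgroup ↥(Cfsg.SU 3 F q)) :=
    P.is_maximal' hUp hPU
  refine ⟨y, hyx, ?_⟩
  apply hCU F q hF v hv0 hvv (y : Matrix.SpecialLinearGroup (Fin 3) F) (hle hyP')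
  · intro g' hg'
    have hg'SU : g' ∈ Cfsg.SU 3 F q := hUle hg'
    have hg'P : (⟨g', hg'SU⟩ : ↥(Cfsg.SU 3 F q)) ∈ (P : Subgroup ↥(Cfsg.SU 3 F q)) := by
      rw [← hUP, Subgroup.mem_subgroupOf]
      exact hg'
    have h1 : QuotientGroup.mk' (Subgroup.center (Cfsg.SU 3 F q)) (⟨g', hg'SU⟩ : ↥(Cfsg.SU 3 F q)) ∈
        (S : Subgroup (Cfsg.PSU 3 F q)) := by
      rw [← hPS]
      exact Subgroup.mem_map_of_mem _ hg'P
    have h2 := hxc _ h1
    rw [← hyx, ← map_mul, ← map_mul] at h2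
    have h3 : (⟨g', hg'SU⟩ * y : ↥(Cfsg.SU 3 F q))⁻¹ * (y * ⟨g', hg'SU⟩) ∈
        Subgroup.center (Cfsg.SU 3 F q) := by
      have h4 := (QuotientGroup.eq (s := Subgroup.center (Cfsg.SU 3 F q))).mp h2.symm
      exact h4
    have h5 : (⟨g', hg'SU⟩ * y : ↥(Cfsg.SU 3 F q))⁻¹ * (y * ⟨g', hg'SU⟩) ∈
        (P : Subgroup ↥(Cfsg.SU 3 F q)) :=
      mul_mem (inv_mem (mul_mem hg'P hyP)) (mul_mem hyP hg'P)
    have h6 := hcen _ h5 h3
    have h7 : y * ⟨g', hg'SU⟩ = ⟨g', hg'SU⟩ * y := (inv_mul_eq_one.mp h6).symm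
    exact congrArg Subtype.val h7
  · intro h0
    exact hy1 (Subtype.ext h0)

end Cfsg.Agent.Lib.Helper68.U3
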